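import Cfsg.Agent.H765.EPS.Bridge

/-!
# S3499, own characteristic: `Sp₈(2)` in dimension 16, the end (helper765)
-/

set_option autoImplicit false
set_option linter.unusedSectionVars false

namespace Cfsg.Agent.H765.EPS

open Subgroup Cfsg.Agent.H284 Cfsg.Agent.H419.EP
open scoped MatrixGroups Matrix commutatorElement

section Final

theorem zero_or_one {F : Type*} [Field F] [Fintype F] (hF : Fintype.card F = 2) (c : F) : c = 0 ∨ c = 1 := by
  classical
  by_contra hcon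
  push Not at hcon
  have h1 : ({0, 1, c} : Finset F).card ≤ 2 := by
    rw [← hF]
    exact Finset.card_le_univ _
  rw [Finset.card_eq_three.2 ⟨0, 1, c, zero_ne_one, hcon.1.symm, hcon.2.symm, rfl⟩] at h1
  omega

theorem unit_one {F : Type*} [Field F] [Fintype F] (hF : Fintype.card F = 2) (c : Fˣ) : c = 1 := by
  apply Units.ext
  rcases zero_or_one hF (c : F) with h | h
  · exact absurd h c.ne_zero
  · exact h

theorem scalars_bot {ι : Type} [Fintype ι] [DecidableEq ι] {F : Type*} [Field F] [Fintype F]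
    (hF : Fintype.card F = 2) : Cfsg.Geo.scalars ι F = ⊥ := by
  rw [Subgroup.eq_bot_iff_forall]
  rintro _ ⟨c, rfl⟩
  rw [unit_one hF c, map_one]

/-- quotient by the trivial subgroup -/
noncomputable def quotBot {G : Type*} [Group G] (N : Subgroup G) [N.Normal] (h : N = ⊥) : G ≃* G ⧸ N :=
  MulEquiv.ofBijective (QuotientGroup.mk' N) ⟨by
    rw [injective_iff_map_eq_one]
    intro a ha
    have h1 : a ∈ N := (QuotientGroup.eq_one_iff a).1 ha
    rw [h, mem_bot] at h1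
    exact h1, QuotientGroup.mk'_surjective N⟩

/-- **`Sp₈(2)` in dimension 16 over the field with two elements is not a point stabiliser.** -/
theorem htwo_two {Q : Type} [Group Q] [Finite Q] {A : Subgroup Q} {Γ : Subgroup (MulAut Q)} {ι : Type} [Fintype ι]
    [DecidableEq ι] {F : Type} [Field F] [Fintype F] {S P : Subgroup (GL ι F)} (b : Big A Γ S P)
    (hn : Fintype.card ι = 16) (hF : Fintype.card F = 2) {K : Type} [Field K] [Fintype K]
    (hK : Fintype.card K = 2) (e : socle P ≃* Cfsg.PSp 4 K) : False := by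
  have hsc := scalars_bot (ι := ι) hF
  let e1 : Matrix.symplecticGroup (Fin 4) K ≃* Cfsg.PSp 4 K := quotBot _ (center_bot hK)
  let e2 : P ≃* socle P := quotBot _ (by
    rw [hsc]
    exact Subgroup.bot_subgroupOf P)
  let θ0 : Matrix.symplecticGroup (Fin 4) K ≃* P := e1.trans (e.symm.trans e2.symm)
  let θ : Matrix.symplecticGroup (Fin 4) K →* GL ι F := P.subtype.comp θ0.toMonoidHom
  have hθ : Function.Injective θ := P.subtype_injective.comp θ0.injective
  have hθP : ∀ g, θ g ∈ P := fun g => (θ0 g).2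
  have hrange : θ.range = P := by
    apply le_antisymm
    · rintro _ ⟨g, rfl⟩
      exact hθP g
    · intro x hx
      obtain ⟨g, hg⟩ := θ0.surjective ⟨x, hx⟩
      exact ⟨g, congrArg Subtype.val hg⟩
  clear_value θ
  have hrep := rep_of hK hF hn hθ (by rw [hrange]; exact b.core.absIrred.1)
  obtain ⟨hm1, hm2⟩ := hrep.main
  obtain ⟨Ym, hYm⟩ : ∃ Ym : Matrix ι ι F, Ym = (θ (Y0 K) : Matrix ι ι F) := ⟨_, rfl⟩
  have hyy : (Matrix.toLinAlgEquiv' : Matrix ι ι F ≃ₐ[F] _) Ym = Rep.yy (fun x => rho θ (TT K x)) := by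
    have h1 : Y0 K = TT K 40 * TT K 66 * TT K 32 * TT K 4 * TT K 16 * TT K 5 * TT K 64 * TT K 128 := by
      simp [Y0, y0w, mul_assoc]
    have h2 : (Matrix.toLinAlgEquiv' : Matrix ι ι F ≃ₐ[F] _) Ym = rho θ (Y0 K) := by rw [hYm]; rfl
    rw [h2, h1]
    simp only [map_mul]
    rfl
  have hchar : (2 : F) = 0 := two_of_card hF
  have hR : ∀ r : Matrix ι ι F, r + r = 0 := fun r => by rw [← two_smul F r, hchar, zero_smul]
  have hy17 : Ym ^ 17 = 1 := by
    rw [hYm, ← Units.val_pow_eq_pow_val, ← map_pow, Y0_pow hK, map_one]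
    rfl
  have hn1 : (Ym + 1) * th Ym ≠ 0 := by
    intro h0
    apply hm1
    have h1 := congrArg ((Matrix.toLinAlgEquiv' : Matrix ι ι F ≃ₐ[F] _).toAlgHom.toRingHom) h0
    rw [map_mul, map_add, map_one, map_zero, map_th] at h1
    have h2 : (Matrix.toLinAlgEquiv' : Matrix ι ι F ≃ₐ[F] _).toAlgHom.toRingHom Ym =
        Rep.yy (fun x => rho θ (TT K x)) := hyy
    rw [h2] at h1
    exact h1
  have hn2 : (Ym + 1) * (1 + th Ym) ≠ 0 := by
    intro h0
    apply hm2
    have h1 := congrArg ((Matrix.toLinAlgEquiv' : Matrix ι ι F ≃ₐ[F] _).toAlgHom.toRingHom) h0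
    rw [map_mul, map_add, map_add, map_one, map_zero, map_th] at h1
    have h2 : (Matrix.toLinAlgEquiv' : Matrix ι ι F ≃ₐ[F] _).toAlgHom.toRingHom Ym =
        Rep.yy (fun x => rho θ (TT K x)) := hyy
    rw [h2] at h1
    exact h1
  have hC17 := cc_pow17 hR hy17
  obtain ⟨c', hc'⟩ : ∃ c' : GL ι F, (c' : Matrix ι ι F) = cc Ym :=
    ⟨⟨cc Ym, cc Ym ^ 16, by rw [← pow_succ']; exact hC17, by rw [← pow_succ]; exact hC17⟩, rfl⟩
  have hc17 : c' ^ 17 = 1 := by
    apply Units.ext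
    rw [Units.val_pow_eq_pow_val, hc', hC17]
    rfl
  have hc16 : c'⁻¹ = c' ^ 16 := inv_eq_of_mul_eq_one_right (by rw [← pow_succ']; exact hc17)
  have hcomm : c' * θ (Y0 K) = θ (Y0 K) * c' := by
    apply Units.ext
    rw [Units.val_mul, Units.val_mul, hc', ← hYm]
    have c1 : Commute Ym (th Ym) := comm_th (Commute.refl Ym)
    have c2 : Commute Ym (cc Ym) := ((Commute.refl Ym).mul_right c1).add_right ((Commute.one_right _).add_right c1)
    exact c2.eq.symm
  have hinv' : ∀ g : Matrix.symplecticGroup (Fin 4) K, g * Y0 K * g⁻¹ = Y0 K ^ 16 → θ g * c' * (θ g)⁻¹ = c'⁻¹ := by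
    intro g hg
    rw [mul_inv_eq_iff_eq_mul, hc16]
    apply Units.ext
    rw [Units.val_mul, Units.val_mul, Units.val_pow_eq_pow_val, hc']
    apply cc_inv hR hy17
    rw [mul_inv_eq_iff_eq_mul] at hg
    have h1 := congrArg (fun x => ((θ x : GL ι F) : Matrix ι ι F)) hg
    simp only [map_mul, map_pow, Units.val_mul, Units.val_pow_eq_pow_val] at h1
    rw [← hYm] at h1
    exact h1
  have hPS := b.le_S
  -- `c' ∈ S`
  have hcS : c' ∈ S := by
    rcases b.kind with ⟨hS, -, -, -, -⟩ | ⟨f, -, -, h3, -, -, -⟩ | ⟨q, hq, σ, f, -, -, -, -, -, -⟩ | ⟨Qf, hQ, hS, -, -⟩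
    · rw [hS]
      exact unit_one hF _
    · omega
    · exfalso
      rw [hF] at hq
      have h1 : q < 2 := by nlinarith
      interval_cases q <;> omega
    · have hiso : ∀ x ∈ P, ∀ v, Qf ((x : Matrix ι ι F) *ᵥ v) = Qf v := by
        intro x hx v
        have h1 := hPS hx
        rw [hS] at h1
        obtain ⟨y, _, rfl⟩ := h1
        exact y.2 v v
      have hciso : c' ∈ Cfsg.isometryGroup F Qf := by
        intro v _
        show Qf ((c' : Matrix ι ι F) *ᵥ v) = Qf v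
        rw [hc']
        exact quad_fix hchar hQ.polar_bilinear hy17 (fun w => by rw [hYm]; exact hiso _ (hθP _) w) v
      have huiso : θ (U0 K) ∈ Cfsg.isometryGroup F Qf := by
        intro v _
        exact hiso _ (hθP _) v
      have h1 := hinv' (U0 K) (U0_inv hK)
      have h2 : ⁅c' ^ 9, θ (U0 K)⁆ = c' := by
        have h3 : θ (U0 K) * (c' ^ 9)⁻¹ * (θ (U0 K))⁻¹ = c' ^ 9 := by
          have h4 : θ (U0 K) * (c' ^ 9)⁻¹ * (θ (U0 K))⁻¹ = ((θ (U0 K) * c' * (θ (U0 K))⁻¹) ^ 9)⁻¹ := by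
            rw [conj_pow]; group
          rw [h4, h1, inv_pow, inv_inv]
        calc ⁅c' ^ 9, θ (U0 K)⁆ = c' ^ 9 * (θ (U0 K) * (c' ^ 9)⁻¹ * (θ (U0 K))⁻¹) := by
              rw [commutatorElement_def]; group
          _ = c' ^ 9 * c' ^ 9 := by rw [h3]
          _ = c' ^ 17 * c' := by rw [← pow_add, ← pow_succ]
          _ = c' := by rw [hc17, one_mul]
      rw [hS, ← h2]
      refine ⟨⁅(⟨c', hciso⟩ : Cfsg.isometryGroup F Qf) ^ 9, ⟨θ (U0 K), huiso⟩⁆, ?_, ?_⟩
      · exact commutator_mem_commutator (mem_top _) (mem_top _)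
      · rw [map_commutatorElement, map_pow]
        rfl
  have hSθ : ∀ g, θ g ∈ S := fun g => hPS (hθP g)
  let ψ : Matrix.symplecticGroup (Fin 4) K →* Q := b.m.π.comp (θ.codRestrict S hSθ)
  have hπ : Function.Injective b.m.π := by
    rw [injective_iff_map_eq_one]
    intro s hs
    have h1 := (b.m.ker s).1 hs
    rw [hsc, mem_bot] at h1
    exact Subtype.ext h1
  have hψ : Function.Injective ψ := hπ.comp (fun a c h => hθ (Subtype.ext_iff.1 h))
  have hψA : ψ.range ≤ A := by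
    rintro _ ⟨g, rfl⟩
    have h1 : θ g ∈ b.m.hat A := b.core.le (hθP g)
    exact (b.m.mem_hat_iff ⟨θ g, hSθ g⟩).1 h1
  have hcard : Nat.card A ≤ Nat.card (Matrix.symplecticGroup (Fin 4) K) := by
    have h1 := (b.hasSoc' e).card_le
    have h2 := Cfsg.Agent.S0814.result (F := K) 2 1 le_rfl (by rw [hK]; norm_num) 4 (by norm_num) (by norm_num)
    rw [h2] at h1
    have h3 : Nat.card (Cfsg.PSp 4 K) = Nat.card (Matrix.symplecticGroup (Fin 4) K) := (Nat.card_congr e1.toEquiv).symm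
    rw [h3] at h1
    simpa using h1
  have hψr : ψ.range = A := by
    apply Subgroup.eq_of_le_of_card_ge hψA
    rw [← Nat.card_congr (MonoidHom.ofInjective hψ).toEquiv]
    exact hcard
  have hcA : b.m.π ⟨c', hcS⟩ ∉ A := by
    intro hA
    obtain ⟨g, hg⟩ : ∃ g, ψ g = b.m.π ⟨c', hcS⟩ := by
      have h1 : b.m.π ⟨c', hcS⟩ ∈ ψ.range := hψr.ge hA
      exact h1
    have h1 : θ g = c' := Subtype.ext_iff.1 (hπ hg)
    have h2 : g * Y0 K = Y0 K * g := by
      apply hθ
      rw [map_mul, map_mul, h1, hcomm]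
    obtain ⟨j, rfl⟩ := Y0_cent hK h2
    refine cc_ne hR hy17 hn1 hn2 j ?_
    rw [← hc', ← h1, map_pow, Units.val_pow_eq_pow_val, ← hYm]
  refine final_abs hK b.ept ?_ ψ hψ hψr (c := b.m.π ⟨c', hcS⟩) ?_ hcA ?_ ?_
  · intro L hL hΓ hab
    refine b.hasSoc.no_abelian b.core.simple ?_ hL ?_ hab
    · intro hc
      exact b.core.nonabelian ⟨⟨hc⟩⟩
    · intro a ha k hk
      exact hΓ (MulAut.conj a) ((b.ept.conj a).2 ha) k hk
  · rw [← map_pow]
    have : (⟨c', hcS⟩ : S) ^ 17 = 1 := Subtype.ext hc17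
    rw [this, map_one]
  · show b.m.π ⟨c', hcS⟩ * b.m.π ⟨θ (Y0 K), _⟩ = b.m.π ⟨θ (Y0 K), _⟩ * b.m.π ⟨c', hcS⟩
    rw [← map_mul, ← map_mul]
    congr 1
    exact Subtype.ext hcomm
  · intro g hg
    show b.m.π ⟨θ g, hSθ g⟩ * b.m.π ⟨c', hcS⟩ * (b.m.π ⟨θ g, hSθ g⟩)⁻¹ = (b.m.π ⟨c', hcS⟩)⁻¹
    rw [← map_mul, ← map_inv, ← map_mul, ← map_inv]
    congr 1
    exact Subtype.ext (hinv' g hg)

/-- the same in the form of `Cfsg.Agent.H532.EP.HTwo` -/
theorem hTwo : ∀ {Q : Type} [Group Q] [Finite Q] {A : Subgroup Q}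
    {Γ : Subgroup (MulAut Q)} {ι : Type} [Fintype ι] [DecidableEq ι] {F : Type} [Field F] [Fintype F]
    {S P : Subgroup (GL ι F)}, Big A Γ S P → ∀ (K : Type) [Field K] [Fintype K], Fintype.card K = 2 →
    Fintype.card F = 2 → Fintype.card ι = 16 → Nonempty (socle P ≃* Cfsg.PSp 4 K) → False := by
  intro Q _ _ A Γ ι _ _ F _ _ S P b K _ _ hK hF hn ⟨e⟩
  exact htwo_two b hn hF hK e

end Final

end Cfsg.Agent.H765.EPS
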