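import Cfsg.Agent.H284.EP.PS

/-!
# Extremely primitive groups: a variant of the normaliser part of (PS) (helper765; proof of helper284)
-/

set_option autoImplicit false
set_option linter.unusedSectionVars false

namespace Cfsg.Agent.H765.EPS

open MulAction Subgroup Cfsg.Agent.H284

variable {Q : Type*} [Group Q] [Finite Q] {A : Subgroup Q} {Γ : Subgroup (MulAut Q)} (h : EPT A Γ)

include h

/-- the normaliser part of (PS), with a weaker hypothesis for the primes `l` -/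
theorem PS_norm' (hF : ∀ K : Subgroup Q, K ≤ A → (∀ σ ∈ Γ, ∀ k ∈ K, σ k ∈ K) → (∀ a ∈ K, ∀ b ∈ K, a * b = b * a) → K = ⊥)
    {s : ℕ} (hs : s.Prime) {Y : Subgroup Q} (hYA : Y ≤ A) (hY : Nat.card Y = s)
    (hYc : ∀ a ∈ A, (∀ y ∈ Y, a * y = y * a) → a ∈ Y)
    (hfrob : ∀ l, l.Prime → l ∣ Nat.card A → l ≠ s → ∀ R : Subgroup Q, R ≤ A → IsPGroup l R →
      (∀ y ∈ Y, ∀ a ∈ R, y * a * y⁻¹ ∈ R) → R ≠ ⊥ → ¬ l ^ (Nat.card A).factorization l ≡ 1 [MOD s])
    {c : Q} (hYc' : Y ≤ cj c A) (hcA : c ∉ A) :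
    ∃ u ∈ A ⊓ cj c A, (∀ y ∈ Y, u * y * u⁻¹ ∈ Y) ∧ u ∉ Y := by
  have := Fact.mk hs
  by_contra hcon
  have hno : ∀ u ∈ A ⊓ cj c A, (∀ y ∈ Y, u * y * u⁻¹ ∈ Y) → u ∈ Y := by
    intro u hu hun
    by_contra huY
    exact hcon ⟨u, hu, hun, huY⟩
  set M0 := A ⊓ cj c A with hM0
  have hYM : Y ≤ M0 := le_inf hYA hYc'
  have hYp : IsPGroup s Y := IsPGroup.of_card (n := 1) (by rw [hY, pow_one])
  have hYab : ∀ a ∈ Y, ∀ b ∈ Y, a * b = b * a := by
    have := isCyclic_of_prime_card hY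
    have hc : ∀ a b : Y, a * b = b * a := fun a b => (IsCyclic.commGroup (α := Y)).mul_comm a b
    exact fun a ha b hb => Subtype.ext_iff.1 (hc ⟨a, ha⟩ ⟨b, hb⟩)
  have hYM' : IsPGroup s (Y.subgroupOf M0) := hYp.of_equiv (Subgroup.subgroupOfEquivOfLe hYM).symm
  obtain ⟨P, hP⟩ := hYM'.exists_le_sylow
  have hPY : (P : Subgroup M0).map M0.subtype = Y := by
    by_contra hne
    obtain ⟨y, hy1, hy2, hy3⟩ := exists_norm_lt hs (P.isPGroup'.map M0.subtype) (R := Y) (by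
      intro y hy
      exact ⟨⟨y, hYM hy⟩, hP hy, rfl⟩) hne
    apply hy2
    obtain ⟨z, _, rfl⟩ := hy1
    exact hno _ z.2 hy3
  have hPmem : ∀ y : M0, y ∈ (P : Subgroup M0) ↔ (y : Q) ∈ Y := by
    intro y
    constructor
    · intro hy
      rw [← hPY]
      exact ⟨y, hy, rfl⟩
    · intro hy
      rw [← hPY] at hy
      obtain ⟨z, hz, e⟩ := hy
      have : z = y := Subtype.ext e
      rwa [← this]
  have hPc : Subgroup.normalizer ((P : Subgroup M0) : Set M0) ≤ Subgroup.centralizer ((P : Subgroup M0) : Set M0) := by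
    intro y hy
    rw [Subgroup.mem_centralizer_iff]
    rw [Subgroup.mem_normalizer_iff] at hy
    have h1 : (y : Q) ∈ Y := by
      apply hno _ y.2
      intro k hk
      exact (hPmem _).1 ((hy ⟨k, hYM hk⟩).1 ((hPmem _).2 hk))
    intro z hz
    apply Subtype.ext
    exact hYab _ ((hPmem z).1 hz) _ h1
  obtain ⟨L', hL'n, hcomp, hnd, hlL'⟩ : ∃ L' : Subgroup M0, L'.Normal ∧ Subgroup.IsComplement' L' (P : Subgroup M0) ∧
      ¬ s ∣ Nat.card L' ∧ ∀ x : M0, ∀ l : ℕ, l.Prime → l ≠ s → (∃ k : ℕ, x ^ (l ^ k) = 1) → x ∈ L' := by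
    refine ⟨(MonoidHom.transferSylow P hPc).ker, MonoidHom.normal_ker _,
      MonoidHom.ker_transferSylow_isComplement' P hPc, MonoidHom.not_dvd_card_ker_transferSylow P hPc, ?_⟩
    rintro x l hl hls ⟨k, hk⟩
    rw [MonoidHom.mem_ker]
    have h1 : orderOf (MonoidHom.transferSylow P hPc x) ∣ l ^ k := by
      apply orderOf_dvd_of_pow_eq_one
      rw [← map_pow, hk, map_one]
    obtain ⟨j, hj⟩ := P.isPGroup' (MonoidHom.transferSylow P hPc x)
    have h2 : orderOf (MonoidHom.transferSylow P hPc x) ∣ s ^ j := orderOf_dvd_of_pow_eq_one hj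
    have h3 : Nat.Coprime (l ^ k) (s ^ j) := Nat.Coprime.pow _ _ ((Nat.coprime_primes hl hs).2 hls)
    have h4 : orderOf (MonoidHom.transferSylow P hPc x) ∣ 1 := by
      rw [← h3]
      exact Nat.dvd_gcd h1 h2
    exact orderOf_eq_one_iff.1 (Nat.dvd_one.1 h4)
  by_cases hbot : L' = ⊥
  · -- `M0 = Y` is abelian
    rw [hbot, Subgroup.isComplement'_bot_left] at hcomp
    have hM0Y : M0 ≤ Y := by
      intro m hm
      have : (⟨m, hm⟩ : M0) ∈ (P : Subgroup M0) := by rw [hcomp]; exact mem_top _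
      exact (hPmem _).1 this
    obtain ⟨K, h1, h2, h3, h4⟩ := h.abM0 c hcA (fun a ha b hb => hYab a (hM0Y ha) b (hM0Y hb))
    exact h3 (hF K h1 h2 h4)
  · set L := L'.map M0.subtype with hL
    have hLM : L ≤ M0 := by
      rintro _ ⟨y, _, rfl⟩
      exact y.2
    have hLn : ∀ m ∈ M0, ∀ a ∈ L, m * a * m⁻¹ ∈ L := by
      rintro m hm _ ⟨a, ha, rfl⟩
      exact ⟨⟨m, hm⟩ * a * ⟨m, hm⟩⁻¹, hL'n.conj_mem a ha _, rfl⟩
    have hLY : ∀ a ∈ L, a ∈ Y → a = 1 := by
      rintro _ ⟨a, ha, rfl⟩ haY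
      have h1 : a ∈ (P : Subgroup M0) := (hPmem a).2 haY
      have h2 := hcomp.disjoint
      rw [Subgroup.disjoint_def] at h2
      rw [h2 ha h1, map_one]
    have hLne : L ≠ ⊥ := by
      rw [hL, Ne, Subgroup.map_eq_bot_iff_of_injective _ M0.subtype_injective]
      exact hbot
    have hfixL : ∀ a ∈ L, (∀ y ∈ Y, y * a = a * y) → a = 1 := by
      intro a ha hya
      apply hLY a ha
      apply hYc a (mem_inf.1 (hLM ha)).1
      intro y hy
      exact (hya y hy).symm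
    have hnil : Group.IsNilpotent L := (fpf_sub (L := L) hs hY (fun y hy => hLn y (hYM hy)) hfixL).1 hLne
    have hcardL : Nat.card L ≠ 1 := fun e => hLne (Subgroup.card_eq_one.1 e)
    obtain ⟨l, hl, hld⟩ := Nat.exists_prime_and_dvd hcardL
    have := Fact.mk hl
    have hcLL' : Nat.card L = Nat.card L' := (Nat.card_congr (L'.equivMapOfInjective _ M0.subtype_injective).toEquiv).symm
    have hls : l ≠ s := by
      rintro rfl
      rw [hcLL'] at hld
      exact hnd hld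
    -- `l`-elements of `M0` are in `L`
    have hlL : ∀ x ∈ M0, (∃ k : ℕ, x ^ (l ^ k) = 1) → x ∈ L := by
      rintro x hx ⟨k, hk⟩
      exact ⟨⟨x, hx⟩, hlL' _ l hl hls ⟨k, Subtype.ext hk⟩, rfl⟩
    obtain ⟨R, hR, hRp⟩ := exists_lpart hnil hl
    have hR' : ∀ x, x ∈ R ↔ x ∈ M0 ∧ ∃ k : ℕ, x ^ (l ^ k) = 1 := by
      intro x
      rw [hR]
      exact ⟨fun hx => ⟨hLM hx.1, hx.2⟩, fun hx => ⟨hlL x hx.1 hx.2, hx.2⟩⟩
    have hRne : R ≠ ⊥ := by
      intro e
      obtain ⟨d, hd⟩ := exists_prime_orderOf_dvd_card' l hld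
      have h2 : (d : Q) ∈ R := (hR _).2 ⟨d.2, 1, by
        rw [pow_one]
        have := pow_orderOf_eq_one d
        rw [hd] at this
        exact Subtype.ext_iff.1 this⟩
      rw [e, mem_bot] at h2
      have h3 : d = 1 := Subtype.ext h2
      rw [h3, orderOf_one] at hd
      exact hl.one_lt.ne hd
    have hRA : R ≤ A := fun x hx => (mem_inf.1 ((hR' x).1 hx).1).1
    -- `R` is a Sylow subgroup of `A`
    have hRA' : IsPGroup l (R.subgroupOf A) := hRp.of_equiv (Subgroup.subgroupOfEquivOfLe hRA).symm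
    obtain ⟨P', hP'⟩ := hRA'.exists_le_sylow
    have hPR : (P' : Subgroup A).map A.subtype = R := by
      apply h.sylow hcA hl hR' hRne
      · rintro _ ⟨y, _, rfl⟩
        exact y.2
      · exact P'.isPGroup'.map _
      · intro y hy
        exact ⟨⟨y, hRA hy⟩, hP' hy, rfl⟩
    have hcardR : Nat.card R = l ^ (Nat.card A).factorization l := by
      rw [← hPR, ← P'.card_eq_multiplicity]
      exact (Nat.card_congr ((P' : Subgroup A).equivMapOfInjective _ A.subtype_injective).toEquiv).symm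
    have hRn : ∀ y ∈ Y, ∀ a ∈ R, y * a * y⁻¹ ∈ R := by
      intro y hy a ha
      rw [hR'] at ha ⊢
      obtain ⟨ha1, k, hk⟩ := ha
      refine ⟨M0.mul_mem (M0.mul_mem (hYM hy) ha1) (M0.inv_mem (hYM hy)), k, ?_⟩
      rw [conj_pow, hk, mul_one, mul_inv_cancel]
    have hfix := (fpf_sub hs hY (L := R) hRn (by
      intro a ha hya
      apply hLY a ((hR a).1 ha).1
      apply hYc a (hRA ha)
      intro y hy
      exact (hya y hy).symm)).2
    refine hfrob l hl ?_ hls R hRA hRp hRn hRne ?_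
    · exact hld.trans (Subgroup.card_dvd_of_le (hLM.trans inf_le_left))
    · rw [← hcardR]
      exact hfix

end Cfsg.Agent.H765.EPS
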