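import Cfsg.Agent.H765.EPS.Sp

/-!
# An element of order 17 of `Sp₈(2)` (helper765)
-/

set_option autoImplicit false
set_option linter.unusedSectionVars false

namespace Cfsg.Agent.H765.EPS

open Matrix Cfsg.Agent.ClassicalGeometry.SympBasic

/-- the word of an element of order 17 -/
def y0w : List ℕ := [40, 66, 32, 4, 16, 5, 64, 128]

def ypw : ℕ → ℕ → ℕ
  | 0, n => n
  | k + 1, n => aw y0w (ypw k n)

section

variable (K : Type*) [Field K]

/-! ### The table of `aw y0w` on 8 bits -/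

/-- the table -/
def yTab : ℕ :=
  0x322352430d1c6d7c9283f2e3adbccddc5d4c3d2c62730213fdec9d8cc2d3a2b37869180947562736d8c9b8a9e7f687961706776628394859b7a6d7c68899e8f9637203125c4d3c2dc3d2a3b2fced9c8d0c1d6c7d33225342acbdccdd9382f3e229384958160776678998e9f8b6a7d6c74657263779681908e6f78697d9c8b9a89a8bfaeba5b4c5d43a2b5a4b05146574f5e49584cadbaabb554435246a7b0a1bd0c1b0a1effe8f9e706110014f5e2f3ebfaedfce8091e0f11f0e7f6e20314051cbdaabbaf4e594856b7a0b1a54453425a4b5c4d59b8afbea041564753b2a5b4a8190e1f0beafdecf213041501e0f7e6feeff8e9fd1c0b1a04e5f2e3f71601100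

def yt (n : ℕ) : ℕ := (yTab >>> (8 * n)) % 256

theorem yt_eq0 : ∀ n < 64, aw y0w n = yt n := by decide +kernel
theorem yt_eq1 : ∀ n < 64, aw y0w (64 + n) = yt (64 + n) := by decide +kernel
theorem yt_eq2 : ∀ n < 64, aw y0w (128 + n) = yt (128 + n) := by decide +kernel
theorem yt_eq3 : ∀ n < 64, aw y0w (192 + n) = yt (192 + n) := by decide +kernel

theorem yt_eq (n : ℕ) (hn : n < 256) : aw y0w n = yt n := by
  by_cases h1 : n < 64
  · exact yt_eq0 n h1
  by_cases h2 : n < 128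
  · have h := yt_eq1 (n - 64) (by omega)
    rwa [show 64 + (n - 64) = n by omega] at h
  by_cases h3 : n < 192
  · have h := yt_eq2 (n - 128) (by omega)
    rwa [show 128 + (n - 128) = n by omega] at h
  · have h := yt_eq3 (n - 192) (by omega)
    rwa [show 192 + (n - 192) = n by omega] at h

def tpw : ℕ → ℕ → ℕ
  | 0, n => n
  | k + 1, n => yt (tpw k n)

theorem ypw_eq_tpw (n : ℕ) (hn : n < 256) : ∀ k, ypw k n = tpw k n ∧ tpw k n < 256
  | 0 => ⟨rfl, hn⟩
  | k + 1 => by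
    obtain ⟨h1, h2⟩ := ypw_eq_tpw n hn k
    refine ⟨?_, Nat.mod_lt _ (by norm_num)⟩
    show aw y0w (ypw k n) = yt (tpw k n)
    rw [h1, yt_eq _ h2]

theorem tpw_17 : ∀ n < 256, tpw 17 n = n := by decide +kernel

theorem ypw_17 (n : ℕ) (hn : n < 256) : ypw 17 n = n := by
  rw [(ypw_eq_tpw n hn 17).1]
  exact tpw_17 n hn

/-- the element of order 17 -/
def Y0 : Matrix.symplecticGroup (Fin 4) K := (y0w.map (TT K)).prod

/-- the matrix of an element -/
abbrev mt {K : Type*} [Field K] (g : Matrix.symplecticGroup (Fin 4) K) : Matrix (Fin 4 ⊕ Fin 4) (Fin 4 ⊕ Fin 4) K := g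

end

variable {K : Type*} [Field K] [Fintype K] (hK : Fintype.card K = 2)

include hK

theorem Y0_vec (n : ℕ) : mt (Y0 K) *ᵥ vec K n = vec K (aw y0w n) := prod_vec (two_of_card hK) _ _

theorem Y0_pow_vec (k n : ℕ) : mt (Y0 K ^ k) *ᵥ vec K n = vec K (ypw k n) := by
  induction k with
  | zero => exact Matrix.one_mulVec _
  | succ k ih =>
    rw [pow_succ', mt, coe_mul_mulVec, ih, Y0_vec hK]
    rfl

/-- equality in the group can be checked on the basis vectors -/
theorem ext_bas {g k : Matrix.symplecticGroup (Fin 4) K} (h : ∀ i < 8, mt g *ᵥ vec K (2 ^ i) = mt k *ᵥ vec K (2 ^ i)) :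
    g = k := by
  have h2 := two_of_card hK
  have h3 : ∀ j < 8, ∀ r < 2 ^ j, 2 ^ j + r = 2 ^ j ^^^ r := by decide +kernel
  have key : ∀ j ≤ 8, ∀ n < 2 ^ j, mt g *ᵥ vec K n = mt k *ᵥ vec K n := by
    intro j
    induction j with
    | zero =>
      intro _ n hn
      have h0 : n = 0 := by omega
      rw [h0, vec_zero, Matrix.mulVec_zero, Matrix.mulVec_zero]
    | succ j ih =>
      intro hj n hn
      by_cases hlt : n < 2 ^ j
      · exact ih (by omega) n hlt
      · obtain ⟨r, hr⟩ := Nat.exists_eq_add_of_le (Nat.le_of_not_lt hlt)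
        have hr2 : r < 2 ^ j := by
          rw [pow_succ] at hn
          omega
        rw [hr, h3 j (by omega) r hr2, vec_xor h2, Matrix.mulVec_add, Matrix.mulVec_add, ih (by omega) r hr2,
          h j (by omega)]
  exact ext_vec hK fun n hn => key 8 le_rfl n hn

theorem Y0_pow : Y0 K ^ 17 = 1 := by
  apply ext_vec hK
  intro n hn
  have h1 := Y0_pow_vec hK 17 n
  have h2 : ∀ n < 256, ypw 17 n = n := ypw_17
  rw [h2 n hn] at h1
  exact h1.trans (Matrix.one_mulVec _).symm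

/-- `Y0` fixes no nonzero vector -/
theorem Y0_fix {w : Fin 4 ⊕ Fin 4 → K} (hw : mt (Y0 K) *ᵥ w = w) : w = 0 := by
  obtain ⟨n, hn, rfl⟩ := vec_surj hK w
  rw [Y0_vec hK] at hw
  have h1 : ∀ n < 256, n ≠ 0 → aw y0w n < 256 ∧ aw y0w n ≠ n := by decide +kernel
  by_cases h0 : n = 0
  · rw [h0, vec_zero]
  · exact absurd (vec_inj (h1 n hn h0).1 hn hw) (h1 n hn h0).2

theorem Y0_ne : Y0 K ≠ 1 := by
  intro e
  have h1 : vec K 1 = 0 := by
    apply Y0_fix hK
    rw [e]
    exact Matrix.one_mulVec _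
  rw [← vec_zero] at h1
  have := vec_inj (K := K) (m := 1) (n := 0) (by norm_num) (by norm_num) h1
  omega

theorem orderOf_Y0 : orderOf (Y0 K) = 17 :=
  orderOf_eq_prime (hp := ⟨by norm_num⟩) (Y0_pow hK) (Y0_ne hK)

/-- `Y0` acts irreducibly -/
theorem Y0_irr (X : Submodule K (Fin 4 ⊕ Fin 4 → K)) (hX : ∀ w ∈ X, mt (Y0 K) *ᵥ w ∈ X) : X = ⊥ ∨ X = ⊤ := by
  classical
  have : Fact (Nat.Prime 17) := ⟨by norm_num⟩
  have hfin : Fintype X := Fintype.ofFinite _
  let f : Function.End X := fun w => ⟨mt (Y0 K) *ᵥ (w : Fin 4 ⊕ Fin 4 → K), hX w w.2⟩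
  have hfk : ∀ (k : ℕ) (w : X), (((f ^ k : Function.End X) w : X) : Fin 4 ⊕ Fin 4 → K) = mt (Y0 K ^ k) *ᵥ (w : Fin 4 ⊕ Fin 4 → K) := by
    intro k
    induction k with
    | zero =>
      intro w
      exact (Matrix.one_mulVec _).symm
    | succ k ih =>
      intro w
      rw [pow_succ', pow_succ', mt, coe_mul_mulVec, ← ih]
      rfl
  have hf : f ^ 17 ^ 1 = 1 := by
    rw [pow_one]
    funext w
    apply Subtype.ext
    rw [hfk, Y0_pow hK]
    exact Matrix.one_mulVec _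
  have h1 := Equiv.Perm.card_fixedPoints_modEq hf
  have h2 : Fintype.card (Function.fixedPoints f) = 1 := by
    rw [Fintype.card_eq_one_iff]
    refine ⟨⟨0, ?_⟩, ?_⟩
    · apply Subtype.ext
      exact Matrix.mulVec_zero (mt (Y0 K))
    · rintro ⟨w, hw⟩
      apply Subtype.ext
      apply Subtype.ext
      exact Y0_fix hK (Subtype.ext_iff.1 hw)
  rw [h2] at h1
  have h3 : Fintype.card X = 2 ^ Module.finrank K X := by
    rw [← hK]
    exact Module.card_eq_pow_finrank (K := K) (V := X)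
  have h4 : Module.finrank K X ≤ 8 := by
    have := Submodule.finrank_le X
    rw [Module.finrank_fintype_fun_eq_card, Fintype.card_sum, Fintype.card_fin] at this
    exact this
  rw [h3] at h1
  have h5 : Module.finrank K X = 0 ∨ Module.finrank K X = 8 := by
    generalize Module.finrank K X = k at h1 h4
    interval_cases k
    · left; rfl
    all_goals first | (right; rfl) | (exfalso; revert h1; decide)
  rcases h5 with h5 | h5
  · left
    exact Submodule.finrank_eq_zero.1 h5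
  · right
    apply Submodule.eq_top_of_finrank_eq
    have h6 : Module.finrank K (Fin 4 ⊕ Fin 4 → K) = 8 := by
      rw [Module.finrank_fintype_fun_eq_card, Fintype.card_sum, Fintype.card_fin]
    rw [h5, h6]

/-- the fixed space of a set of elements -/
def fixS (K : Type*) [Field K] (R : Set (Matrix.symplecticGroup (Fin 4) K)) : Submodule K (Fin 4 ⊕ Fin 4 → K) where
  carrier := {w | ∀ r ∈ R, mt r *ᵥ w = w}
  add_mem' := by
    intro a b ha hb r hr
    rw [Matrix.mulVec_add, ha r hr, hb r hr]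
  zero_mem' := by
    intro r _
    exact Matrix.mulVec_zero _
  smul_mem' := by
    intro c a ha r hr
    rw [Matrix.mulVec_smul, ha r hr]

theorem eq_one_of_fixS_top {R : Set (Matrix.symplecticGroup (Fin 4) K)} (h : fixS K R = ⊤) : ∀ r ∈ R, r = 1 := by
  intro r hr
  apply ext_vec hK
  intro n _
  have h1 : vec K n ∈ fixS K R := by rw [h]; exact Submodule.mem_top
  exact (h1 r hr).trans (Matrix.one_mulVec _).symm

theorem Y0_fixS {R : Set (Matrix.symplecticGroup (Fin 4) K)} (hR : ∀ r ∈ R, (Y0 K)⁻¹ * r * Y0 K ∈ R)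
    (hne : ∃ w ∈ fixS K R, w ≠ 0) : ∀ r ∈ R, r = 1 := by
  apply eq_one_of_fixS_top hK
  rcases Y0_irr hK (fixS K R) (by
    intro w hw r hr
    have h1 := hw _ (hR r hr)
    have e : Y0 K * ((Y0 K)⁻¹ * r * Y0 K) = r * Y0 K := by group
    calc mt r *ᵥ (mt (Y0 K) *ᵥ w) = mt (r * Y0 K) *ᵥ w := (coe_mul_mulVec _ _ _).symm
      _ = mt (Y0 K * ((Y0 K)⁻¹ * r * Y0 K)) *ᵥ w := by rw [e]
      _ = mt (Y0 K) *ᵥ (mt ((Y0 K)⁻¹ * r * Y0 K) *ᵥ w) := coe_mul_mulVec _ _ _
      _ = mt (Y0 K) *ᵥ w := by rw [h1]) with h1 | h1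
  · obtain ⟨w, hw, hw0⟩ := hne
    rw [h1] at hw
    exact absurd ((Submodule.mem_bot K).1 hw) hw0
  · exact h1

/-- the centraliser of `Y0` -/
theorem Y0_cent {g : Matrix.symplecticGroup (Fin 4) K} (hg : g * Y0 K = Y0 K * g) : ∃ j : ℕ, g = Y0 K ^ j := by
  have hgk : ∀ k : ℕ, g * Y0 K ^ k = Y0 K ^ k * g := fun k => (show Commute g (Y0 K) from hg).pow_right k
  obtain ⟨v, hv, hgv⟩ := vec_surj hK (mt g *ᵥ vec K 1)
  have h2 := two_of_card hK
  have h1 : ∀ k : ℕ, sf v (ypw k v) = sf 1 (ypw k 1) := by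
    intro k
    apply bt_inj (K := K)
    rw [← form_vec h2, ← form_vec h2, ← Y0_pow_vec hK, ← Y0_pow_vec hK, hgv, mt, mt, ← coe_mul_mulVec, ← hgk,
      coe_mul_mulVec, sympForm_mulVec g.2]
  have hv0 : v ≠ 0 := by
    rintro rfl
    rw [vec_zero] at hgv
    have h3 : mt (g⁻¹ * g) *ᵥ vec K 1 = 0 := by
      rw [mt, coe_mul_mulVec, ← hgv]
      exact Matrix.mulVec_zero _
    rw [inv_mul_cancel] at h3
    have h4 : vec K 1 = 0 := (Matrix.one_mulVec _).symm.trans h3
    rw [← vec_zero] at h4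
    have := vec_inj (K := K) (m := 1) (n := 0) (by norm_num) (by norm_num) h4
    omega
  have h3 : ∀ v < 256, v ≠ 0 → (∀ k < 9, sf v (ypw k v) = sf 1 (ypw k 1)) → ∃ j < 17, v = ypw j 1 := by
    decide +kernel
  obtain ⟨j, _, hj⟩ := h3 v hv hv0 fun k _ => h1 k
  refine ⟨j, ?_⟩
  have h4 : mt ((Y0 K ^ j)⁻¹ * g) *ᵥ vec K 1 = vec K 1 := by
    rw [mt, coe_mul_mulVec, ← hgv, hj, ← Y0_pow_vec hK, mt, ← coe_mul_mulVec, inv_mul_cancel]
    exact Matrix.one_mulVec _
  have h5 := Y0_fixS hK (R := {(Y0 K ^ j)⁻¹ * g}) (by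
    intro r hr
    rw [Set.mem_singleton_iff] at hr ⊢
    rw [hr]
    have c1 : Commute (Y0 K) ((Y0 K ^ j)⁻¹ * g) :=
      ((Commute.refl (Y0 K)).pow_right j).inv_right.mul_right (show Commute (Y0 K) g from hg.symm)
    rw [mul_assoc, ← c1.eq, inv_mul_cancel_left]) ⟨vec K 1, (by
    intro r hr
    rw [Set.mem_singleton_iff] at hr
    rw [hr]
    exact h4), (by
    intro e
    rw [← vec_zero] at e
    have := vec_inj (K := K) (m := 1) (n := 0) (by norm_num) (by norm_num) e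
    omega)⟩ _ rfl
  rw [inv_mul_eq_one] at h5
  exact h5.symm

/-- no 2-subgroup `≠ 1` is normalised by `Y0` -/
theorem Y0_two {R : Subgroup (Matrix.symplecticGroup (Fin 4) K)} (hR : IsPGroup 2 R)
    (hn : ∀ r ∈ R, (Y0 K)⁻¹ * r * Y0 K ∈ R) : R = ⊥ := by
  classical
  have : Fact (Nat.Prime 2) := ⟨Nat.prime_two⟩
  rw [Subgroup.eq_bot_iff_forall]
  refine Y0_fixS hK (R := (R : Set _)) hn ?_
  let _ : MulAction R (Fin 4 ⊕ Fin 4 → K) :=
    { smul := fun r w => mt (r : Matrix.symplecticGroup (Fin 4) K) *ᵥ w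
      one_smul := fun w => Matrix.one_mulVec _
      mul_smul := fun r s w => coe_mul_mulVec _ _ _ }
  have h1 := hR.card_modEq_card_fixedPoints (Fin 4 ⊕ Fin 4 → K)
  have h2 : Nat.card (Fin 4 ⊕ Fin 4 → K) = 256 := by
    rw [Nat.card_eq_fintype_card, Fintype.card_fun, hK, Fintype.card_sum, Fintype.card_fin]
    norm_num
  rw [h2] at h1
  by_contra hcon
  push Not at hcon
  have h3 : Nat.card (MulAction.fixedPoints R (Fin 4 ⊕ Fin 4 → K)) = 1 := by
    rw [Nat.card_eq_one_iff_unique]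
    refine ⟨⟨?_⟩, ⟨⟨0, fun r => Matrix.mulVec_zero (mt (r : Matrix.symplecticGroup (Fin 4) K))⟩⟩⟩
    have key : ∀ w : Fin 4 ⊕ Fin 4 → K, w ∈ MulAction.fixedPoints R (Fin 4 ⊕ Fin 4 → K) → w = 0 := by
      intro w hw
      exact hcon w fun r hr => hw ⟨r, hr⟩
    rintro ⟨a, ha⟩ ⟨b, hb⟩
    apply Subtype.ext
    show a = b
    rw [key a ha, key b hb]
  rw [h3] at h1
  exact absurd h1 (by decide)

end Cfsg.Agent.H765.EPS
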